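import Groth.Agent.CohPullX.FlatSections
import Groth.Agent.KFlatLib.Scheme.FlatDescent
import Groth.Agent.KFlatLib.Scheme.Pullback
import Groth.Agent.InvX.GenEpi
import Groth.Agent.QCoh.LocFree

/-! Global generation and faithfully flat extension of the base ring. -/

universe u

open CategoryTheory CategoryTheory.Limits AlgebraicGeometry TopologicalSpace Opposite

set_option backward.isDefEq.respectTransparency false
set_option backward.isDefEq.respectTransparency.types false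

namespace Groth.Agent.GGDesc7

variable {X X' S S' : Scheme.{u}} {f : X ⟶ S} {g : S' ⟶ S} {g' : X' ⟶ X} {f' : X' ⟶ S'}

theorem one_inj {M : X.Modules} {s t : Coh.structureModule X ⟶ M} (h : InvX.one s = InvX.one t) : s = t := by
  refine Scheme.Modules.hom_ext _ _ fun W => ?_
  ext r
  exact (InvX.app_eq_smul s r).trans ((by rw [h] : _ = _).trans (InvX.app_eq_smul t r).symm)

theorem hom_ext_free {M N : X.Modules} {ι : Type u} (p : (SheafOfModules.free ι : X.Modules) ⟶ M) [Epi p]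
    {α β : M ⟶ N} (h : ∀ i, α.app ⊤ (InvX.one (Sigma.ι (fun _ : ι => Coh.structureModule X) i ≫ p)) =
      β.app ⊤ (InvX.one (Sigma.ι (fun _ : ι => Coh.structureModule X) i ≫ p))) : α = β := by
  rw [← cancel_epi p]
  refine Sigma.hom_ext (f := fun _ : ι => Coh.structureModule X) _ _ fun i => one_inj ?_
  exact h i

/-- Pullback of generated is generated. -/
theorem pullback_gg (φ : X' ⟶ X) {F : X.Modules} (h : Curv2.IsGloballyGenerated F) :
    Curv2.IsGloballyGenerated ((Scheme.Modules.pullback φ).obj F) := by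
  obtain ⟨ι, p, hp⟩ := h
  let s : ι → Γ(F, ⊤) := fun i => InvX.one (Sigma.ι (fun _ : ι => Coh.structureModule X) i ≫ p)
  let t : ι → Γ((Scheme.Modules.pullback φ).obj F, ⊤) := fun i =>
    QCoh.pullSec φ F (le_refl (φ ⁻¹ᵁ ⊤)) (s i)
  refine ⟨ι, Sigma.desc fun i => InvX.ofSect (t i), ⟨fun {W : X'.Modules} (α β : (Scheme.Modules.pullback φ).obj F ⟶ W) hαβ => ?_⟩⟩
  have h1 : ∀ i, α.app ⊤ (t i) = β.app ⊤ (t i) := fun i => by
    have := congrArg (fun χ => InvX.one (Sigma.ι (fun _ : ι => Coh.structureModule X') i ≫ χ)) hαβ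
    simp only [Sigma.ι_desc_assoc] at this
    rw [← InvX.one_ofSect (t i)]
    exact this
  refine ((Scheme.Modules.pullbackPushforwardAdjunction φ).homEquiv _ _).injective ?_
  refine hom_ext_free p fun i => ?_
  have key : ∀ γ : (Scheme.Modules.pullback φ).obj F ⟶ W,
      ((Scheme.Modules.pullbackPushforwardAdjunction φ).homEquiv _ _ γ).app ⊤ (s i) = γ.app ⊤ (t i) := fun γ => by
    rw [Adjunction.homEquiv_unit]
    show γ.app ⊤ (((Scheme.Modules.pullbackPushforwardAdjunction φ).unit.app F).app ⊤ (s i)) = _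
    refine congrArg (γ.app ⊤) ?_
    exact (ConcreteCategory.congr_hom (((Scheme.Modules.pullback φ).obj F).presheaf.map_id _) _).symm
  exact (key α).trans ((h1 i).trans (key β).symm)

theorem pullSec_naturality {M N : X.Modules} (φ : X' ⟶ X) (a : M ⟶ N) {V : X.Opens} {W : X'.Opens}
    (hle : W ≤ φ ⁻¹ᵁ V) (x : Γ(M, V)) :
    ((Scheme.Modules.pullback φ).map a).app W (QCoh.pullSec φ M hle x) =
      QCoh.pullSec φ N hle (a.app V x) := by
  unfold QCoh.pullSec
  refine (AModX.app_res ((Scheme.Modules.pullback φ).map a) hle _).trans ?_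
  refine congrArg (((Scheme.Modules.pullback φ).obj N).presheaf.map (homOfLE hle).op) ?_
  exact (ConcreteCategory.congr_hom
    (congrArg (fun χ => Scheme.Modules.Hom.app χ V)
      ((Scheme.Modules.pullbackPushforwardAdjunction φ).unit.naturality a)) x).symm

/-- Descent of global generation. -/
theorem of_pullback (h : IsPullback g' f' f g) [IsAffine S] [IsAffine S'] [QuasiCompact f] [QuasiSeparated f]
    [Flat g] [Surjective g] {F : X.Modules} (hF : Coh.IsQCoh F)
    (hgg : Curv2.IsGloballyGenerated ((Scheme.Modules.pullback g').obj F)) :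
    Curv2.IsGloballyGenerated F := by
  haveI : Flat g' := MorphismProperty.of_isPullback h.flip ‹Flat g›
  haveI : Surjective g' := MorphismProperty.of_isPullback h.flip ‹Surjective g›
  let q : (SheafOfModules.free ↑Γ(F, ⊤) : X.Modules) ⟶ F :=
    Sigma.desc fun s : Γ(F, ⊤) => InvX.ofSect s
  refine ⟨↑Γ(F, ⊤), q, Preadditive.epi_of_isZero_cokernel q ?_⟩
  let C : X.Modules := cokernel q
  let π : F ⟶ C := cokernel.π q
  have hπs : ∀ s : Γ(F, ⊤), π.app ⊤ s = 0 := fun s => by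
    have := congrArg (fun χ => InvX.one (Sigma.ι (fun _ : Γ(F, ⊤) => Coh.structureModule X) s ≫ χ))
      (cokernel.condition q)
    simp only [q, Sigma.ι_desc_assoc, comp_zero] at this
    rw [← InvX.one_ofSect s]
    exact this.trans rfl
  refine KFlatLib.isZero_of_isZero_pullback g' _ ?_
  suffices h0 : (Scheme.Modules.pullback g').map π = 0 by
    haveI : Epi ((Scheme.Modules.pullback g').map π) :=
      (Scheme.Modules.pullback g').map_epi π
    rw [IsZero.iff_id_eq_zero, ← cancel_epi ((Scheme.Modules.pullback g').map π), h0]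
    simp
  obtain ⟨ι, p, hp⟩ := hgg
  refine hom_ext_free p fun i => ?_
  letI : Algebra Γ(S, ⊤) Γ(S', ⊤) := (g.appLE ⊤ ⊤ le_top).hom.toAlgebra
  letI : Module Γ(S, ⊤) Γ(F, f ⁻¹ᵁ ⊤) := Module.compHom _ (f.app ⊤).hom
  letI : Module Γ(S', ⊤) Γ((Scheme.Modules.pullback g').obj F, f' ⁻¹ᵁ ⊤) := Module.compHom _ (f'.app ⊤).hom
  letI : Module Γ(S, ⊤) Γ((Scheme.Modules.pullback g').obj F, f' ⁻¹ᵁ ⊤) :=
    Module.compHom _ (algebraMap Γ(S, ⊤) Γ(S', ⊤))
  haveI : IsScalarTower Γ(S, ⊤) Γ(S', ⊤) Γ((Scheme.Modules.pullback g').obj F, f' ⁻¹ᵁ ⊤) :=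
    .of_algebraMap_smul fun _ _ => rfl
  have hle' : f' ⁻¹ᵁ ⊤ ≤ g' ⁻¹ᵁ (f ⁻¹ᵁ ⊤) := fun _ _ => trivial
  have hcomm : ∀ a : Γ(S, ⊤), g'.appLE (f ⁻¹ᵁ ⊤) (f' ⁻¹ᵁ ⊤) hle' (f.app ⊤ a) =
      f'.app ⊤ (algebraMap Γ(S, ⊤) Γ(S', ⊤) a) := fun a => by
    show _ = f'.app ⊤ (g.appLE ⊤ ⊤ le_top a)
    rw [Scheme.Hom.app_eq_appLE, Scheme.Hom.app_eq_appLE, ← CommRingCat.comp_apply, ← CommRingCat.comp_apply,
      Scheme.Hom.appLE_comp_appLE, Scheme.Hom.appLE_comp_appLE]
    simp [h.w]
  let l : Γ(F, f ⁻¹ᵁ ⊤) →ₗ[Γ(S, ⊤)] Γ((Scheme.Modules.pullback g').obj F, f' ⁻¹ᵁ ⊤) :=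
    { toFun := QCoh.pullSec g' F hle'
      map_add' := QCoh.pullSec_add g' F hle'
      map_smul' := fun a x => by
        show QCoh.pullSec g' F hle' (f.app ⊤ a • x) = f'.app ⊤ (algebraMap _ _ a) • _
        rw [QCoh.pullSec_smul, hcomm] }
  have hl := CohPullX.bijective_sections_flatBC h hF (isAffineOpen_top S) (isAffineOpen_top S') le_top hle' l
    fun _ => rfl
  have key : ∀ z : Γ((Scheme.Modules.pullback g').obj F, f' ⁻¹ᵁ ⊤),
      ((Scheme.Modules.pullback g').map π).app (f' ⁻¹ᵁ ⊤) z = 0 := fun z => by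
    induction z using hl.inductionOn with
    | zero => exact map_zero _
    | tmul x =>
      refine (pullSec_naturality g' π hle' x).trans ?_
      rw [show π.app (f ⁻¹ᵁ ⊤) x = 0 from hπs x]
      unfold QCoh.pullSec
      rw [map_zero, map_zero]
    | smul a z hz =>
      show ((Scheme.Modules.pullback g').map π).app (f' ⁻¹ᵁ ⊤) (f'.app ⊤ a • z) = 0
      rw [Scheme.Modules.Hom.app_smul, hz, smul_zero]
    | add z w hz hw => rw [map_add, hz, hw, add_zero]
  exact (key _).trans rfl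

end Groth.Agent.GGDesc7
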